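import Mathlib

/-!
Regular unipotent triangular matrices are conjugate to the Jordan block; blocks of size `1 + m`;
frames adapted to a vector and a functional.
-/

set_option autoImplicit false

namespace CfsgLib.RegUnipotent

open Matrix

variable {K : Type*} [Field K]

/-- upper unitriangular with nonzero first superdiagonal -/
structure IsUpperReg {n : ℕ} (U : Matrix (Fin n) (Fin n) K) : Prop where
  diag : ∀ i, U i i = 1
  below : ∀ i j, j < i → U i j = 0
  super : ∀ i j : Fin n, j.val = i.val + 1 → U i j ≠ 0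

/-- lower unitriangular with nonzero first subdiagonal -/
def IsLowerReg {n : ℕ} (L : Matrix (Fin n) (Fin n) K) : Prop := IsUpperReg Lᵀ

/-- the Jordan block -/
def jordan (n : ℕ) : Matrix (Fin n) (Fin n) K :=
  Matrix.of fun i j => if i = j then 1 else if j.val = i.val + 1 then 1 else 0

theorem det_jordan (n : ℕ) : (jordan n : Matrix (Fin n) (Fin n) K).det = 1 := by
  rw [Matrix.det_of_isUpperTriangular]
  · simp [jordan]
  · intro i j (h : j < i)
    have h' : j.val < i.val := h
    simp [jordan, (ne_of_lt h).symm, show ¬ j.val = i.val + 1 by omega]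

theorem det_upperReg {n : ℕ} {U : Matrix (Fin n) (Fin n) K} (h : IsUpperReg U) : U.det = 1 := by
  rw [Matrix.det_of_isUpperTriangular fun i j hij => h.below i j hij]
  simp [h.diag]

theorem upperReg_conj_jordan {n : ℕ} {U : Matrix (Fin n) (Fin n) K} (h : IsUpperReg U) :
    ∃ x : Matrix (Fin n) (Fin n) K, x.det ≠ 0 ∧ U * x = x * jordan n := by
  rcases n with _ | m
  · exact ⟨1, by simp, Subsingleton.elim _ _⟩
  let N : Matrix (Fin (m + 1)) (Fin (m + 1)) K := U - 1
  let z : ℕ → Fin (m + 1) → K := fun k => (N ^ k) *ᵥ (Pi.single (Fin.last m) 1)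
  have hz : ∀ k, z (k + 1) = N *ᵥ z k := fun k => by
    simp only [z, pow_succ', mulVec_mulVec]
  have hN : ∀ i j : Fin (m + 1), j ≤ i → N i j = 0 := fun i j hij => by
    rcases hij.lt_or_eq with hlt | rfl
    · simp [N, h.below i j hlt, hlt.ne']
    · simp [N, h.diag]
  have key : ∀ k, (∀ j : Fin (m + 1), m < j.val + k → z k j = 0) ∧
      ∀ j : Fin (m + 1), j.val + k = m → z k j ≠ 0 := by
    intro k
    induction k with
    | zero =>
      refine ⟨fun j hj => absurd hj (by omega), fun j hj => ?_⟩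
      obtain rfl : j = Fin.last m := Fin.ext (by simpa using hj)
      simp [z]
    | succ k ih =>
      have hterm : ∀ j l : Fin (m + 1), (l.val ≤ j.val ∨ m < l.val + k) → N j l * z k l = 0 := by
        rintro j l (hl | hl)
        · rw [hN j l hl, zero_mul]
        · rw [ih.1 l hl, mul_zero]
      refine ⟨fun j hj => ?_, fun j hj => ?_⟩
      · rw [hz]
        show (∑ l, N j l * z k l) = 0
        exact Finset.sum_eq_zero fun l _ => hterm j l (by omega)
      · rw [hz]
        let l : Fin (m + 1) := ⟨j.val + 1, by omega⟩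
        have hl : l.val + k = m := by simp [l]; omega
        show (∑ l', N j l' * z k l') ≠ 0
        rw [Finset.sum_eq_single l (fun l' _ hne => hterm j l' (by
          have : l'.val ≠ j.val + 1 := fun e => hne (Fin.ext e)
          omega)) (fun h => absurd (Finset.mem_univ l) h)]
        refine mul_ne_zero ?_ (ih.2 l hl)
        simp [N, l, Matrix.one_apply, Fin.ext_iff]
        exact h.super j ⟨j.val + 1, by omega⟩ rfl
  let x : Matrix (Fin (m + 1)) (Fin (m + 1)) K := Matrix.of fun a i => z (m - i.val) a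
  refine ⟨x, ?_, ?_⟩
  · rw [Matrix.det_of_isUpperTriangular (M := x) fun i j (hij : j < i) => (key (m - j.val)).1 i (by
      have : j.val < i.val := hij
      omega)]
    exact Finset.prod_ne_zero_iff.2 fun i _ => (key (m - i.val)).2 i (by omega)
  · ext a i
    have hU : ∀ k, (U *ᵥ z k) = z k + z (k + 1) := fun k => by
      rw [hz]; simp [N, Matrix.sub_mulVec]
    have hL : (U * x) a i = z (m - i.val) a + z (m - i.val + 1) a := by
      have := congrFun (hU (m - i.val)) a
      simpa [mulVec, dotProduct, Matrix.mul_apply, x] using this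
    rw [hL, Matrix.mul_apply]
    by_cases hi : i.val = 0
    · rw [Finset.sum_eq_single i (fun l _ hl => by
        simp [jordan, hl, hi]) (fun h => absurd (Finset.mem_univ i) h)]
      have hm : z (m - i.val + 1) a = 0 := (key _).1 a (by omega)
      simp [x, jordan, hm]
    · let i' : Fin (m + 1) := ⟨i.val - 1, by omega⟩
      have hne : i ≠ i' := fun e => by
        have := congrArg Fin.val e
        simp [i'] at this
        omega
      rw [Fintype.sum_eq_add i i' hne (fun l hl => by
        simp only [jordan, Matrix.of_apply, hl.1, if_false]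
        rw [if_neg, mul_zero]
        exact fun e => hl.2 (Fin.ext (by simp [i']; omega)))]
      have e1 : jordan (K := K) (m + 1) i i = 1 := by simp [jordan]
      have e2 : jordan (K := K) (m + 1) i' i = 1 := by
        simp only [jordan, Matrix.of_apply, if_neg hne.symm]
        exact if_pos (by simp only [i']; omega)
      rw [e1, e2, mul_one, mul_one]
      show _ = z (m - i.val) a + z (m - (i.val - 1)) a
      rw [show m - (i.val - 1) = m - i.val + 1 by omega]

theorem lowerReg_conj_jordan {n : ℕ} {L : Matrix (Fin n) (Fin n) K} (h : IsLowerReg L) :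
    ∃ x : Matrix (Fin n) (Fin n) K, x.det ≠ 0 ∧ L * x = x * jordan n := by
  have hU : IsUpperReg (L.submatrix Fin.rev Fin.rev) :=
    ⟨fun i => h.diag _, fun i j hij => h.below j.rev i.rev (Fin.rev_lt_rev.2 hij),
      fun i j hij => h.super j.rev i.rev (by simp [Fin.val_rev]; omega)⟩
  obtain ⟨x, hx, he⟩ := upperReg_conj_jordan hU
  refine ⟨x.submatrix Fin.rev id, ?_, ?_⟩
  · have := Matrix.det_permute Fin.revPerm x
    rw [show x.submatrix Fin.rev id = x.submatrix Fin.revPerm id from rfl, this]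
    exact mul_ne_zero (by rcases Int.units_eq_one_or (Equiv.Perm.sign (Fin.revPerm : Equiv.Perm (Fin n))) with e | e <;> simp [e]) hx
  · ext a i
    have := congrFun (congrFun he a.rev) i
    simp only [Matrix.mul_apply, Matrix.submatrix_apply, Fin.rev_rev, id] at this ⊢
    rw [← this]
    exact (Equiv.sum_comp Fin.revPerm fun l => L a l * x l.rev i).symm.trans (by simp)

/-- `[[a, c], [b, M]]` -/
def blk {m : ℕ} (a : K) (b c : Fin m → K) (M : Matrix (Fin m) (Fin m) K) :
    Matrix (Fin (m + 1)) (Fin (m + 1)) K :=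
  Matrix.of (Fin.cases (Fin.cases a c) fun i => Fin.cases (b i) (M i))

section Blk

variable {m : ℕ} (a a' : K) (b b' c c' : Fin m → K) (M M' : Matrix (Fin m) (Fin m) K)

@[simp] theorem blk_zero_zero : blk a b c M 0 0 = a := rfl
@[simp] theorem blk_zero_succ (j : Fin m) : blk a b c M 0 j.succ = c j := rfl
@[simp] theorem blk_succ_zero (i : Fin m) : blk a b c M i.succ 0 = b i := rfl
@[simp] theorem blk_succ_succ (i j : Fin m) : blk a b c M i.succ j.succ = M i j := rfl

theorem blk_mul : blk a b c M * blk a' b' c' M' =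
    blk (a * a' + c ⬝ᵥ b') (a' • b + M *ᵥ b') (a • c' + c ᵥ* M') (vecMulVec b c' + M * M') := by
  ext i j
  cases i using Fin.cases <;> cases j using Fin.cases <;>
    simp [Matrix.mul_apply, Fin.sum_univ_succ, dotProduct, mulVec, vecMul, vecMulVec, mul_comm]

theorem eq_blk (T : Matrix (Fin (m + 1)) (Fin (m + 1)) K) :
    T = blk (T 0 0) (fun i => T i.succ 0) (fun j => T 0 j.succ)
      (T.submatrix Fin.succ Fin.succ) := by
  ext i j
  cases i using Fin.cases <;> cases j using Fin.cases <;> rfl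

theorem det_blk_lower : (blk 1 b 0 M).det = M.det := by
  rw [Matrix.det_succ_row_zero, Fin.sum_univ_succ]
  have : (blk (1 : K) b 0 M).submatrix Fin.succ ((0 : Fin (m + 1)).succAbove) = M := by
    ext i j; simp [Fin.succAbove_zero]
  rw [Fin.succAbove_zero] at this
  simp [this]

theorem det_blk_upper : (blk 1 0 c M).det = M.det := by
  rw [Matrix.det_succ_column_zero, Fin.sum_univ_succ]
  have : (blk (1 : K) 0 c M).submatrix ((0 : Fin (m + 1)).succAbove) Fin.succ = M := by
    ext i j; simp [Fin.succAbove_zero]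
  rw [Fin.succAbove_zero] at this
  simp [this]

theorem trace_blk : (blk a b c M).trace = a + M.trace := by
  simp [Matrix.trace, Fin.sum_univ_succ]

theorem blk_mulVec_cons (t : K) (z : Fin m → K) :
    blk a b c M *ᵥ Fin.cons t z = Fin.cons (a * t + c ⬝ᵥ z) (t • b + M *ᵥ z) := by
  ext i
  cases i using Fin.cases <;>
    simp [mulVec, dotProduct, Fin.sum_univ_succ, mul_comm]

theorem upperReg_blk {c : Fin m → K} {M : Matrix (Fin m) (Fin m) K} (hM : IsUpperReg M)
    (hc : ∀ j : Fin m, j.val = 0 → c j ≠ 0) : IsUpperReg (blk 1 0 c M) := by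
  refine ⟨fun i => ?_, fun i j h => ?_, fun i j h => ?_⟩
  · cases i using Fin.cases
    · rfl
    · exact hM.diag _
  · cases i using Fin.cases
    · exact absurd h (by simp)
    · cases j using Fin.cases
      · rfl
      · exact hM.below _ _ (Fin.succ_lt_succ_iff.1 h)
  · cases i using Fin.cases <;> cases j using Fin.cases <;> simp at h ⊢
    · exact hc _ h
    · exact hM.super _ _ h

theorem lowerReg_blk {b : Fin m → K} {M : Matrix (Fin m) (Fin m) K} (hM : IsLowerReg M)
    (hb : ∀ j : Fin m, j.val = 0 → b j ≠ 0) : IsLowerReg (blk 1 b 0 M) := by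
  have : (blk 1 b 0 M)ᵀ = blk 1 0 b Mᵀ := by
    ext i j
    cases i using Fin.cases <;> cases j using Fin.cases <;> rfl
  unfold IsLowerReg
  rw [this]
  exact upperReg_blk hM hb

end Blk

/-- a vector outside a subspace is separated from it by a dot product -/
theorem exists_sep {n : ℕ} (p : Submodule K (Fin n → K)) {x : Fin n → K} (hx : x ∉ p) :
    ∃ g : Fin n → K, g ⬝ᵥ x = 1 ∧ ∀ y ∈ p, g ⬝ᵥ y = 0 := by
  obtain ⟨φ, hφx, hφ⟩ := Submodule.exists_dual_map_eq_bot_of_notMem hx inferInstance
  obtain ⟨g, hg⟩ := (dotProductEquiv K (Fin n)).surjective ((φ x)⁻¹ • φ)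
  have hgy : ∀ y, g ⬝ᵥ y = (φ x)⁻¹ * φ y := fun y => by
    have := LinearMap.congr_fun hg y
    simpa using this
  refine ⟨g, by rw [hgy, inv_mul_cancel₀ hφx], fun y hy => ?_⟩
  have : φ y ∈ p.map φ := Submodule.mem_map_of_mem hy
  rw [hφ, Submodule.mem_bot] at this
  rw [hgy, this, mul_zero]

theorem exists_frame {m : ℕ} {f v : Fin (m + 1) → K} (h : f ⬝ᵥ v = 1) :
    ∃ P : Matrix (Fin (m + 1)) (Fin (m + 1)) K, P.det ≠ 0 ∧ P *ᵥ Pi.single 0 1 = v ∧
      f ᵥ* P = Pi.single 0 1 := by
  obtain ⟨k, hk⟩ : ∃ k, f k * v k ≠ 0 := by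
    by_contra hn
    push Not at hn
    simp [dotProduct, hn] at h
  let col : Fin (m + 1) → Fin (m + 1) → K :=
    Fin.cases v fun i => Pi.single (k.succAbove i) 1 - f (k.succAbove i) • v
  let P : Matrix (Fin (m + 1)) (Fin (m + 1)) K := Matrix.of fun a j => col j a
  have hfP : f ᵥ* P = Pi.single 0 1 := by
    funext j
    show f ⬝ᵥ col j = _
    cases j using Fin.cases with
    | zero => simpa [col] using h
    | succ i => simp [col, dotProduct_sub, h]
  refine ⟨P, ?_, by ext a; simp [P, col], hfP⟩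
  intro hdet
  obtain ⟨z, hz, hPz⟩ := Matrix.exists_mulVec_eq_zero_iff.2 hdet
  have h0 : z 0 = 0 := by
    have := congrArg (f ⬝ᵥ ·) hPz
    simpa [dotProduct_mulVec, hfP] using this
  have hsum : ∀ a, ∑ i : Fin m, z i.succ * (Pi.single (k.succAbove i) (1 : K) : Fin (m + 1) → K) a =
      (∑ i : Fin m, z i.succ * f (k.succAbove i)) * v a := fun a => by
    have := congrFun hPz a
    simp only [mulVec, dotProduct, Fin.sum_univ_succ, P, Matrix.of_apply, col, h0, mul_zero,
      zero_add, Fin.cases_succ, Pi.zero_apply, Pi.sub_apply, Pi.smul_apply, smul_eq_mul] at this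
    rw [Finset.sum_mul, ← sub_eq_zero, ← Finset.sum_sub_distrib]
    refine Eq.trans (Finset.sum_congr rfl fun i _ => ?_) this
    ring
  have hc : ∑ i : Fin m, z i.succ * f (k.succAbove i) = 0 := by
    have := hsum k
    rw [Finset.sum_eq_zero (fun i _ => by simp [Pi.single_apply, (Fin.succAbove_ne k i).symm])] at this
    exact (mul_eq_zero.1 this.symm).resolve_right (right_ne_zero_of_mul hk)
  refine hz (funext fun j => ?_)
  cases j using Fin.cases with
  | zero => exact h0
  | succ i =>
    have := hsum (k.succAbove i)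
    rw [hc, zero_mul, Finset.sum_eq_single i (fun l _ hl => by simp [Pi.single_apply, hl.symm])
      (fun h => absurd (Finset.mem_univ i) h)] at this
    simpa using this

end CfsgLib.RegUnipotent

namespace CfsgLib.RegUnipotent

open Matrix

variable {K : Type*} [Field K]

/-- one step: the matrix in a frame adapted to `v` and `f` -/
theorem exists_step_form {m : ℕ} (S : Matrix (Fin (m + 1)) (Fin (m + 1)) K)
    {f v : Fin (m + 1) → K} (h : f ⬝ᵥ v = 1) (h1 : f ⬝ᵥ (S *ᵥ v) = 1) :
    ∃ (P : Matrix (Fin (m + 1)) (Fin (m + 1)) K) (b c : Fin m → K) (M : Matrix (Fin m) (Fin m) K),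
      P.det ≠ 0 ∧ P *ᵥ Pi.single 0 1 = v ∧ f ᵥ* P = Pi.single 0 1 ∧
      S * P = P * blk 1 b c (M + vecMulVec b c) ∧ M.det = S.det ∧
      S.trace = 1 + M.trace + c ⬝ᵥ b ∧ P *ᵥ Fin.cons 0 b = S *ᵥ v - v ∧
      f ⬝ᵥ (S *ᵥ (S *ᵥ v)) = 1 + c ⬝ᵥ b ∧
      (∀ z, S *ᵥ (P *ᵥ Fin.cons 0 z) - (f ⬝ᵥ (S *ᵥ (P *ᵥ Fin.cons 0 z))) • (S *ᵥ v) =
        P *ᵥ Fin.cons 0 (M *ᵥ z)) := by
  obtain ⟨P, hP, hPv, hfP⟩ := exists_frame h
  have hu : IsUnit P.det := isUnit_iff_ne_zero.2 hP
  let T := P⁻¹ * S * P
  have hT : S * P = P * T := by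
    simp only [T, ← mul_assoc, Matrix.mul_nonsing_inv P hu, one_mul]
  have hfz : ∀ z, f ⬝ᵥ (P *ᵥ z) = z 0 := fun z => by
    rw [dotProduct_mulVec, hfP, single_dotProduct, one_mul]
  have hS : ∀ z, S *ᵥ (P *ᵥ z) = P *ᵥ (T *ᵥ z) := fun z => by
    rw [mulVec_mulVec, mulVec_mulVec, hT]
  let b : Fin m → K := fun i => T i.succ 0
  let c : Fin m → K := fun j => T 0 j.succ
  let M : Matrix (Fin m) (Fin m) K := T.submatrix Fin.succ Fin.succ - vecMulVec b c
  have he0 : (Pi.single 0 1 : Fin (m + 1) → K) = Fin.cons 1 0 := by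
    ext i; cases i using Fin.cases <;> simp
  have hTe : T *ᵥ Pi.single 0 1 = Fin.cons (T 0 0) b := by
    ext i; cases i using Fin.cases <;> simp [b]
  have hT00 : T 0 0 = 1 := by
    rw [← hPv, hS, hfz, hTe, Fin.cons_zero] at h1
    exact h1
  have hTb : T = blk 1 b c (M + vecMulVec b c) := by
    rw [show M + vecMulVec b c = T.submatrix Fin.succ Fin.succ from sub_add_cancel _ _, ← hT00]
    exact eq_blk T
  have hSv : S *ᵥ v = P *ᵥ Fin.cons 1 b := by rw [← hPv, hS, hTe, hT00]
  refine ⟨P, b, c, M, hP, hPv, hfP, by rw [← hTb]; exact hT, ?_, ?_, ?_, ?_, fun z => ?_⟩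
  · have h2 : T.det = S.det := by
      simp only [T, Matrix.det_mul, Matrix.det_nonsing_inv]
      rw [mul_comm (Ring.inverse P.det), mul_assoc, Ring.inverse_mul_cancel _ hu, mul_one]
    rw [← h2, hTb, show blk 1 b c (M + vecMulVec b c) = blk 1 b 0 1 * blk 1 0 c M by
      rw [blk_mul]; simp [add_comm], Matrix.det_mul, det_blk_lower, det_blk_upper, det_one, one_mul]
  · have h2 : T.trace = S.trace := by
      simp only [T]
      rw [Matrix.trace_mul_comm, ← mul_assoc, Matrix.mul_nonsing_inv P hu, one_mul]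
    rw [← h2, hTb, trace_blk, trace_add, trace_vecMulVec, dotProduct_comm c b, add_assoc]
  · rw [hSv]
    rw [← hPv]
    rw [he0, ← mulVec_sub]
    congr 1
    ext i; cases i using Fin.cases <;> simp
  · rw [hSv, hS, hfz, hTb, blk_mulVec_cons]
    simp
  · rw [hS, hfz, hSv, ← mulVec_smul, ← mulVec_sub]
    congr 1
    rw [hTb, blk_mulVec_cons]
    ext i
    cases i using Fin.cases with
    | zero => simp
    | succ i => simp [add_mulVec, vecMulVec_mulVec, mul_comm]

end CfsgLib.RegUnipotent
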