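import Cfsg.Agent.Lib.RegUnipotent.Select

/-!
The choice of the functional for one step of the triangular factorization.
-/

set_option autoImplicit false

namespace CfsgLib.RegUnipotent

open Matrix

variable {K : Type*} [Field K] {n : ℕ}

/-- the residual map on the kernel of `f` -/
def res (S : Matrix (Fin n) (Fin n) K) (v f w : Fin n → K) : Fin n → K :=
  S *ᵥ w - (f ⬝ᵥ (S *ᵥ w)) • (S *ᵥ v)

theorem two_le_rank {S : Matrix (Fin n) (Fin n) K} (h : NotLine S) :
    2 ≤ Module.finrank K (LinearMap.range (disp S)) := by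
  by_contra hlt
  obtain ⟨u, hu⟩ := finrank_le_one_iff.1 (show Module.finrank K (LinearMap.range (disp S)) ≤ 1 by omega)
  obtain ⟨z, hz⟩ := h u.1
  obtain ⟨t, ht⟩ := hu ⟨disp S z, LinearMap.mem_range_self _ z⟩
  exact hz t (by rw [← disp_apply]; exact (congrArg Subtype.val ht).symm)

theorem finrank_ker_dot (f : Fin n → K) :
    n ≤ Module.finrank K (LinearMap.ker (dotProductEquiv K (Fin n) f)) + 1 := by
  have h1 := (dotProductEquiv K (Fin n) f).finrank_range_add_finrank_ker
  have h2 := Submodule.finrank_le (LinearMap.range (dotProductEquiv K (Fin n) f))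
  simp at h1 h2
  omega

theorem finrank_span_two (a b : Fin n → K) :
    Module.finrank K (Submodule.span K ({a, b} : Set (Fin n → K))) ≤ 2 := by
  classical
  refine (finrank_span_le_card _).trans ?_
  rw [Set.toFinset_insert, Set.toFinset_singleton]
  exact Finset.card_le_two

theorem finrank_span_line (a : Fin n → K) : Module.finrank K (K ∙ a) ≤ 1 := by
  refine (finrank_span_le_card _).trans ?_
  simp

/-- the candidates: `f v = 1` and `f (S v - v) = 0` -/
def Cand (S : Matrix (Fin n) (Fin n) K) (v : Fin n → K) : Set (Fin n → K) :=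
  {f | f ⬝ᵥ v = 1 ∧ f ⬝ᵥ (S *ᵥ v - v) = 0}

variable {S : Matrix (Fin n) (Fin n) K} {v b : Fin n → K}

theorem flat_cand : Flat K (Cand S v) := fun a ha b hb t => by
  refine ⟨?_, ?_⟩
  · rw [add_dotProduct, smul_dotProduct, sub_dotProduct, ha.1, hb.1, sub_self, smul_zero, add_zero]
  · rw [add_dotProduct, smul_dotProduct, sub_dotProduct, ha.2, hb.2, sub_self, smul_zero, add_zero]

theorem cand_fix {f : Fin n → K} (hf : f ∈ Cand S v) : f ⬝ᵥ (S *ᵥ v) = 1 := by
  have := hf.2
  rwa [dotProduct_sub, hf.1, sub_eq_zero] at this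

theorem cand_nonempty (hv : ∀ l : K, S *ᵥ v ≠ l • v) : (Cand S v).Nonempty := by
  obtain ⟨g, hg1, hg0⟩ := exists_sep (K ∙ (S *ᵥ v - v)) (x := v) (fun hmem => by
    obtain ⟨t, ht⟩ := Submodule.mem_span_singleton.1 hmem
    by_cases h0 : t = 0
    · rw [h0, zero_smul] at ht
      exact hv 0 (by rw [← ht, mulVec_zero, zero_smul])
    · refine hv (t⁻¹ + 1) ?_
      have h1 : S *ᵥ v - v = t⁻¹ • v := by
        conv_rhs => rw [← ht]
        rw [inv_smul_smul₀ h0]
      rw [add_smul, one_smul, ← h1, sub_add_cancel])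
  exact ⟨g, hg1, hg0 _ (Submodule.mem_span_singleton_self _)⟩

/-- a value can be avoided unless it is forced -/
theorem exists_cand_ne (hv : ∀ l : K, S *ᵥ v ≠ l • v) {x : Fin n → K} {τ : K}
    (hx : ∀ t : K, x ≠ τ • v + t • (S *ᵥ v - v)) : ∃ f ∈ Cand S v, f ⬝ᵥ x ≠ τ := by
  obtain ⟨f₀, hf₀⟩ := cand_nonempty hv
  by_cases h0 : f₀ ⬝ᵥ x = τ
  · by_cases hmem : x ∈ Submodule.span K ({v, S *ᵥ v - v} : Set (Fin n → K))
    · obtain ⟨a, c, rfl⟩ := Submodule.mem_span_pair.1 hmem
      rw [dotProduct_add, dotProduct_smul, dotProduct_smul, hf₀.1, hf₀.2] at h0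
      exact absurd (by simp at h0; rw [h0]) (hx c)
    · obtain ⟨g, hg1, hg0⟩ := exists_sep _ hmem
      refine ⟨f₀ + g, ⟨?_, ?_⟩, ?_⟩
      · rw [add_dotProduct, hf₀.1, hg0 _ (Submodule.subset_span (by simp)), add_zero]
      · rw [add_dotProduct, hf₀.2, hg0 _ (Submodule.subset_span (by simp)), add_zero]
      · rw [add_dotProduct, h0, hg1]; simp
  · exact ⟨f₀, hf₀, h0⟩

theorem exists_cand_ne_zero (hv : ∀ l : K, S *ᵥ v ≠ l • v) {x : Fin n → K}
    (hx : x ∉ K ∙ (S *ᵥ v - v)) : ∃ f ∈ Cand S v, f ⬝ᵥ x ≠ 0 :=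
  exists_cand_ne hv fun t ht => hx (Submodule.mem_span_singleton.2 ⟨t, by rw [ht, zero_smul, zero_add]⟩)

/-- the functionals killing a subspace -/
def Killing (p : Submodule K (Fin n → K)) : Set (Fin n → K) := {f | ∀ x ∈ p, f ⬝ᵥ x = 0}

theorem flat_killing (p : Submodule K (Fin n → K)) : Flat K (Killing p) := fun a ha b hb t x hx => by
  simp [add_dotProduct, smul_dotProduct, sub_dotProduct, ha x hx, hb x hx]

theorem exists_cand_killing (hv : ∀ l : K, S *ᵥ v ≠ l • v) {p : Submodule K (Fin n → K)}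
    (hp : ¬ p ≤ K ∙ (S *ᵥ v - v)) : ∃ f ∈ Cand S v, f ∉ Killing p := by
  obtain ⟨x, hxp, hx⟩ := SetLike.not_le_iff_exists.1 hp
  obtain ⟨f, hf, hfx⟩ := exists_cand_ne_zero hv hx
  exact ⟨f, hf, fun h => hfx (h x hxp)⟩

/-- the residual is scalar -/
def ScalarRes (S : Matrix (Fin n) (Fin n) K) (v : Fin n → K) : Set (Fin n → K) :=
  {f | f ∈ Cand S v ∧ ∃ l : K, ∀ w, f ⬝ᵥ w = 0 → res S v f w = l • w}

theorem scalarRes_subsingleton (hS : Ok S) (hn : 3 ≤ n) (hv : ∀ l : K, S *ᵥ v ≠ l • v)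
    {f f' : Fin n → K} (hf : f ∈ ScalarRes S v) (hf' : f' ∈ ScalarRes S v) : f = f' := by
  classical
  by_contra hne
  obtain ⟨hfA, l, hl⟩ := hf
  obtain ⟨hfA', l', hl'⟩ := hf'
  have hdet : S.det ≠ 0 := by rw [hS.det]; exact one_ne_zero
  -- the common values
  have hll : l = l' := by
    obtain ⟨w, hw, hw0⟩ := Submodule.exists_mem_ne_zero_of_ne_bot (LinearMap.ker_ne_bot_of_finrank_lt
      (f := (dotProductEquiv K (Fin n) f).prod (dotProductEquiv K (Fin n) f'))
      (by rw [Module.finrank_prod, Module.finrank_self, Module.finrank_fin_fun]; omega))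
    simp [Prod.ext_iff] at hw
    have h1 := hl w hw.1
    have h2 := hl' w hw.2
    simp only [res] at h1 h2
    have h3 : (f' ⬝ᵥ (S *ᵥ w) - f ⬝ᵥ (S *ᵥ w)) • (S *ᵥ v) = (l - l') • w := by
      rw [sub_smul, sub_smul, ← h1, ← h2]; abel
    have h4 := congrArg (f ⬝ᵥ ·) h3
    simp only [dotProduct_smul, cand_fix hfA, hw.1, smul_eq_mul, mul_one, mul_zero] at h4
    rw [h4, zero_smul] at h3
    exact sub_eq_zero.1 ((smul_eq_zero.1 h3.symm).resolve_right hw0)
  subst hll
  -- hence `S - l` maps everything to the line of `S v`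
  obtain ⟨y, hy⟩ : ∃ y, f ⬝ᵥ y - f' ⬝ᵥ y ≠ 0 := by
    obtain ⟨i, hi⟩ := Function.ne_iff.1 hne
    exact ⟨Pi.single i 1, by simpa [dotProduct_single, sub_eq_zero] using hi⟩
  let w' : Fin n → K := y - (f' ⬝ᵥ y) • v
  have hw' : f' ⬝ᵥ w' = 0 := by simp [w', dotProduct_sub, hfA'.1]
  have hfw' : f ⬝ᵥ w' ≠ 0 := by simpa [w', dotProduct_sub, hfA.1] using hy
  have hall : ∀ x, S *ᵥ x - l • x ∈ K ∙ (S *ᵥ v) := by
    have hW : ∀ w, f ⬝ᵥ w = 0 → S *ᵥ w - l • w ∈ K ∙ (S *ᵥ v) := fun w hw =>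
      Submodule.mem_span_singleton.2 ⟨f ⬝ᵥ (S *ᵥ w), by rw [← hl w hw, res]; abel⟩
    have hW' : S *ᵥ w' - l • w' ∈ K ∙ (S *ᵥ v) :=
      Submodule.mem_span_singleton.2 ⟨f' ⬝ᵥ (S *ᵥ w'), by rw [← hl' w' hw', res]; abel⟩
    intro x
    let s := f ⬝ᵥ x / f ⬝ᵥ w'
    have h1 := hW (x - s • w') (by
      simp [dotProduct_sub, s, div_mul_cancel₀ _ hfw'])
    have h2 := Submodule.add_mem _ h1 (Submodule.smul_mem _ s hW')
    convert h2 using 1
    rw [mulVec_sub, mulVec_smul]
    module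
  obtain ⟨t, ht⟩ := Submodule.mem_span_singleton.1 (hall v)
  by_cases ht1 : t = 1
  · rw [ht1, one_smul, eq_sub_iff_add_eq, add_eq_left] at ht
    rcases smul_eq_zero.1 ht with hl0 | hv0
    · obtain ⟨s, hs⟩ := Submodule.mem_span_singleton.1 (hall (S *ᵥ v - v))
      rw [hl0, zero_smul, sub_zero, ← mulVec_smul, eq_comm, ← sub_eq_zero, ← mulVec_sub] at hs
      have h5 := sub_eq_zero.1 (mulVec_injective hdet hs)
      exact hv (s + 1) (by rw [add_smul, one_smul, ← h5, sub_add_cancel])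
    · exact hv 0 (by rw [hv0, mulVec_zero, zero_smul])
  · refine hv (l / (1 - t)) ?_
    have h5 : (1 - t) • (S *ᵥ v) = l • v := by rw [sub_smul, one_smul, ht]; abel
    rw [div_eq_inv_mul, ← smul_smul, ← h5, inv_smul_smul₀ (sub_ne_zero.2 (Ne.symm ht1))]

/-- no residual transvection -/
theorem notLine_res (hn : 4 ≤ n) (hv : S *ᵥ v - v ≠ 0) (hS : Ok S) {f : Fin n → K}
    (hf : f ∈ Cand S v) (hR : LinearMap.range (disp S) ≠ ⊤ → v ∉ LinearMap.range (disp S))
    (hF : Module.finrank K (LinearMap.range (disp S)) ≤ 2 → f ∉ Killing (LinearMap.ker (disp S)))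
    (u : Fin n → K) : ∃ w, f ⬝ᵥ w = 0 ∧ ∀ t : K, res S v f w - w ≠ t • u := by
  by_contra hne
  push Not at hne
  have hDW : ∀ w, f ⬝ᵥ w = 0 → ∃ t s : K, disp S w = t • u + s • (S *ᵥ v) := fun w hw => by
    obtain ⟨t, ht⟩ := hne w hw
    exact ⟨t, f ⬝ᵥ (S *ᵥ w), by rw [← ht, disp_apply, res]; abel⟩
  have hsplit : ∀ x, disp S x = disp S (x - (f ⬝ᵥ x) • v) + (f ⬝ᵥ x) • (S *ᵥ v - v) := fun x => by
    rw [map_sub, map_smul, ← disp_apply]; abel
  have hker : ∀ x, f ⬝ᵥ (x - (f ⬝ᵥ x) • v) = 0 := fun x => by simp [dotProduct_sub, hf.1]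
  by_cases htop : LinearMap.range (disp S) = ⊤
  · have hle : LinearMap.range (disp S) ≤ Submodule.span K ({u, S *ᵥ v} : Set (Fin n → K)) ⊔
        K ∙ (S *ᵥ v - v) := by
      rintro _ ⟨x, rfl⟩
      rw [hsplit x]
      refine Submodule.add_mem_sup ?_ (Submodule.smul_mem _ _ (Submodule.mem_span_singleton_self _))
      obtain ⟨t, s, hts⟩ := hDW _ (hker x)
      rw [hts]
      exact Submodule.mem_span_pair.2 ⟨t, s, rfl⟩
    have h1 := (Submodule.finrank_mono hle).trans (Submodule.finrank_add_le_finrank_add_finrank _ _)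
    rw [htop, finrank_top, Module.finrank_fin_fun] at h1
    have h2 := finrank_span_two u (S *ᵥ v)
    have h3 := finrank_span_line (S *ᵥ v - v)
    omega
  have hSv : S *ᵥ v ∉ LinearMap.range (disp S) := fun h => hR htop (by
    have := Submodule.sub_mem _ h (LinearMap.mem_range_self (disp S) v)
    rwa [disp_apply, sub_sub_cancel] at this)
  -- the image of `ker f` lies on a line
  obtain ⟨d, hd⟩ : ∃ d, ∀ w, f ⬝ᵥ w = 0 → disp S w ∈ K ∙ d := by
    by_cases h : ∀ w, f ⬝ᵥ w = 0 → disp S w = 0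
    · exact ⟨0, fun w hw => by rw [h w hw]; exact Submodule.zero_mem _⟩
    push Not at h
    obtain ⟨w₁, hw₁, hne₁⟩ := h
    refine ⟨disp S w₁, fun w hw => ?_⟩
    obtain ⟨t₁, s₁, h₁⟩ := hDW w₁ hw₁
    obtain ⟨t, s, hts⟩ := hDW w hw
    have ht₁ : t₁ ≠ 0 := fun e => by
      rw [e, zero_smul, zero_add] at h₁
      have hs : s₁ ≠ 0 := fun e' => hne₁ (by rw [h₁, e', zero_smul])
      exact hSv ((Submodule.smul_mem_iff _ hs).1 (h₁ ▸ LinearMap.mem_range_self _ _))
    have hx : t₁ • disp S w - t • disp S w₁ = (t₁ * s - t * s₁) • (S *ᵥ v) := by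
      rw [hts, h₁]; module
    by_cases h0 : t₁ * s - t * s₁ = 0
    · rw [h0, zero_smul, sub_eq_zero] at hx
      refine Submodule.mem_span_singleton.2 ⟨t₁⁻¹ * t, ?_⟩
      rw [← smul_smul, ← hx, inv_smul_smul₀ ht₁]
    · refine absurd ((Submodule.smul_mem_iff _ h0).1 (hx ▸ ?_)) hSv
      exact Submodule.sub_mem _ (Submodule.smul_mem _ _ (LinearMap.mem_range_self _ _))
        (Submodule.smul_mem _ _ (LinearMap.mem_range_self _ _))
  have hle : LinearMap.range (disp S) ≤ (K ∙ d) ⊔ K ∙ (S *ᵥ v - v) := by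
    rintro _ ⟨x, rfl⟩
    rw [hsplit x]
    exact Submodule.add_mem_sup (hd _ (hker x))
      (Submodule.smul_mem _ _ (Submodule.mem_span_singleton_self _))
  have h2 : Module.finrank K (LinearMap.range (disp S)) ≤ 2 := by
    have h1 := (Submodule.finrank_mono hle).trans (Submodule.finrank_add_le_finrank_add_finrank _ _)
    have h3 := finrank_span_line d
    have h4 := finrank_span_line (S *ᵥ v - v)
    omega
  have hF' := hF h2
  simp only [Killing, Set.mem_setOf_eq, not_forall, LinearMap.mem_ker] at hF'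
  obtain ⟨x, hx, hfx⟩ := hF'
  have hvd : S *ᵥ v - v ∈ K ∙ d := by
    have h5 := hd (v - (f ⬝ᵥ x)⁻¹ • x) (by
      simp [dotProduct_sub, hf.1, inv_mul_cancel₀ hfx])
    rwa [map_sub, map_smul, hx, smul_zero, sub_zero, disp_apply] at h5
  obtain ⟨z, hz⟩ := notLine_of_ok hS (by omega) d
  have : LinearMap.range (disp S) ≤ K ∙ d :=
    hle.trans (sup_le le_rfl ((Submodule.span_singleton_le_iff_mem _ _).2 hvd))
  obtain ⟨t, ht⟩ := Submodule.mem_span_singleton.1 (this (LinearMap.mem_range_self _ z))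
  exact hz t (by rw [← disp_apply, ← ht])

end CfsgLib.RegUnipotent

namespace CfsgLib.RegUnipotent

open Matrix

variable {K : Type*} [Field K]

theorem trace_not_forced {S : Matrix (Fin 3) (Fin 3) K} {v : Fin 3 → K} (hS : Ok S)
    (hv : ∀ l : K, S *ᵥ v ≠ l • v)
    (hR : LinearMap.range (disp S) ≠ ⊤ → v ∉ LinearMap.range (disp S)) (t : K) :
    S *ᵥ (S *ᵥ v) ≠ (S.trace - 2) • v + t • (S *ᵥ v - v) := by
  intro heq
  obtain ⟨f, hf⟩ := cand_nonempty hv
  obtain ⟨P, b, c, M, hP, hPv, hfP, hTP, hMdet, htr, hPb, hSS, hres⟩ :=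
    exists_step_form S hf.1 (cand_fix hf)
  have hb : b ≠ 0 := fun e => hv 1 (by
    rw [e, show (Fin.cons 0 0 : Fin 3 → K) = 0 from by ext i; cases i using Fin.cases <;> simp,
      mulVec_zero] at hPb
    rw [one_smul, sub_eq_zero.1 hPb.symm])
  have hα : f ⬝ᵥ (S *ᵥ (S *ᵥ v)) = S.trace - 2 := by
    rw [heq, dotProduct_add, dotProduct_smul, dotProduct_smul, hf.1, hf.2]; simp
  have htrM : M.trace = 2 := by linear_combination hSS - hα - htr
  obtain ⟨μ, hμ⟩ : ∃ μ : K, M *ᵥ b = μ • b := by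
    refine ⟨t - (S.trace - 2), ?_⟩
    have h := hres b
    rw [hPb] at h
    have h1 : S *ᵥ (S *ᵥ v - v) = (S.trace - 3) • v + (t - 1) • (S *ᵥ v - v) := by
      rw [mulVec_sub, heq]; module
    have h2 : f ⬝ᵥ (S *ᵥ (S *ᵥ v - v)) = S.trace - 3 := by
      rw [h1, dotProduct_add, dotProduct_smul, dotProduct_smul, hf.1, hf.2]; simp
    rw [h2, h1] at h
    have h3 : P *ᵥ (Fin.cons 0 (M *ᵥ b)) = P *ᵥ Fin.cons 0 ((t - (S.trace - 2)) • b) := by
      rw [← h, show (Fin.cons 0 ((t - (S.trace - 2)) • b) : Fin 3 → K) =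
        (t - (S.trace - 2)) • Fin.cons 0 b from by ext i; cases i using Fin.cases <;> simp,
        mulVec_smul, hPb]
      module
    have hinj := (Matrix.mulVec_injective_iff_isUnit.2
      ((Matrix.isUnit_iff_isUnit_det P).2 (isUnit_iff_ne_zero.2 hP))) h3
    exact (Fin.cons_injective2 hinj).2
  -- the only eigenvalue of the residual is `1`
  have hμ1 : μ = 1 := by
    have hd : (M - μ • (1 : Matrix (Fin 2) (Fin 2) K)).det = 0 :=
      Matrix.exists_mulVec_eq_zero_iff.1 ⟨b, hb, by rw [sub_mulVec, smul_mulVec, one_mulVec, hμ, sub_self]⟩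
    have hdet : M.det = 1 := hMdet.trans hS.det
    rw [Matrix.det_fin_two] at hd hdet
    rw [Matrix.trace_fin_two] at htrM
    simp [Matrix.one_apply] at hd
    have : (μ - 1) * (μ - 1) = 0 := by linear_combination hd - hdet + μ * htrM
    exact sub_eq_zero.1 (mul_self_eq_zero.1 this)
  rw [hμ1, one_smul] at hμ
  let u : Fin 2 → K := ![-b 1, b 0]
  have huM : u ᵥ* M = u := by
    have h0 := congrFun hμ 0
    have h1 := congrFun hμ 1
    rw [Matrix.trace_fin_two] at htrM
    simp [mulVec, dotProduct, Fin.sum_univ_two] at h0 h1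
    funext i
    fin_cases i <;> simp [u, vecMul, dotProduct, Fin.sum_univ_two]
    · linear_combination h1 - b 1 * htrM
    · linear_combination -h0 + b 0 * htrM
  have hub : u ⬝ᵥ b = 0 := by simp [u, dotProduct, Fin.sum_univ_two]; ring
  have hle : LinearMap.range (disp S) ≤ Submodule.span K ({v, S *ᵥ v - v} : Set (Fin 3 → K)) := by
    rintro _ ⟨x, rfl⟩
    obtain ⟨z, rfl⟩ : ∃ z, P *ᵥ z = x := ⟨P⁻¹ *ᵥ x, by
      rw [mulVec_mulVec, Matrix.mul_nonsing_inv P (isUnit_iff_ne_zero.2 hP), one_mulVec]⟩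
    rw [disp_apply, mulVec_mulVec, hTP, ← mulVec_mulVec, ← mulVec_sub]
    let w : Fin 2 → K := z 0 • b + (M + vecMulVec b c) *ᵥ Fin.tail z - Fin.tail z
    have hw : u ⬝ᵥ w = 0 := by
      simp only [w, dotProduct_sub, dotProduct_add, dotProduct_smul, add_mulVec, hub]
      rw [dotProduct_mulVec, huM, dotProduct_mulVec, vecMul_vecMulVec, hub]
      simp
    obtain ⟨s, hs⟩ : ∃ s : K, w = s • b := by
      simp [u, dotProduct, Fin.sum_univ_two] at hw
      by_cases hb0 : b 0 = 0
      · have hb1 : b 1 ≠ 0 := fun e => hb (funext fun i => by fin_cases i <;> simp [hb0, e])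
        refine ⟨w 1 / b 1, funext fun i => ?_⟩
        fin_cases i
        · simp [hb0]; simpa [hb0, hb1] using hw
        · simp [div_mul_cancel₀ _ hb1]
      · refine ⟨w 0 / b 0, funext fun i => ?_⟩
        fin_cases i
        · simp [div_mul_cancel₀ _ hb0]
        · simp; field_simp; linear_combination hw
    rw [show blk 1 b c (M + vecMulVec b c) *ᵥ z - z =
      (c ⬝ᵥ Fin.tail z) • (Pi.single 0 1) + s • Fin.cons 0 b from by
        nth_rw 1 [← Fin.cons_self_tail z]
        rw [blk_mulVec_cons]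
        ext i
        cases i using Fin.cases with
        | zero => simp
        | succ i =>
          have := congrFun hs i
          simp only [w, Pi.sub_apply, Pi.add_apply, Pi.smul_apply, Fin.cons_succ, Fin.tail,
            Pi.single_eq_of_ne (Fin.succ_ne_zero i), smul_eq_mul, mul_zero, zero_add] at this ⊢
          exact this,
      mulVec_add, mulVec_smul, mulVec_smul, hPv, hPb]
    exact Submodule.mem_span_pair.2 ⟨_, _, rfl⟩
  have h2 := two_le_rank (notLine_of_ok hS (by omega))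
  have h4 := finrank_span_two v (S *ᵥ v - v)
  by_cases htop : LinearMap.range (disp S) = ⊤
  · have h3 := Submodule.finrank_mono hle
    rw [htop, finrank_top, Module.finrank_fin_fun] at h3
    omega
  · have := Submodule.eq_of_le_of_finrank_le hle (h4.trans h2)
    exact hR htop (this ▸ Submodule.subset_span (by simp))

variable {n : ℕ}

/-- the choice made in one step -/
structure Choice (S : Matrix (Fin n) (Fin n) K) (b c v f : Fin n → K) : Prop where
  cv : c ⬝ᵥ v ≠ 0
  fb : f ⬝ᵥ b ≠ 0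
  fv : f ⬝ᵥ v = 1
  fS : f ⬝ᵥ (S *ᵥ v) = 1
  moved : S *ᵥ v - v ≠ 0
  row : f ᵥ* S ≠ f
  tr : n = 3 → f ⬝ᵥ (S *ᵥ (S *ᵥ v)) ≠ S.trace - 2
  sc : (4 ≤ n ∨ n = 3 ∧ (2 : K) ≠ 0) → ∀ l : K, ∃ w, f ⬝ᵥ w = 0 ∧ res S v f w ≠ l • w
  nl : 4 ≤ n → ∀ u, ∃ w, f ⬝ᵥ w = 0 ∧ ∀ t : K, res S v f w - w ≠ t • u

theorem exists_choice (hK : 4 ≤ Cardinal.mk K) {S : Matrix (Fin n) (Fin n) K} (hS : Ok S)
    (hn : 2 ≤ n) {b c : Fin n → K} (hb : b ≠ 0) (hc : c ≠ 0) : ∃ v f, Choice S b c v f := by
  classical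
  obtain ⟨v, hcv, hv, hvb, hR⟩ := exists_vector hK hS hn (b := b) hc
  have hmov : S *ᵥ v - v ≠ 0 := fun e => hvb 0 (by rw [e, zero_smul])
  obtain ⟨f₀, hf₀⟩ := cand_nonempty hv
  have hbD : b ∉ K ∙ (S *ᵥ v - v) := fun h => by
    obtain ⟨t, ht⟩ := Submodule.mem_span_singleton.1 h
    have ht0 : t ≠ 0 := fun e => hb (by rw [← ht, e, zero_smul])
    exact hvb t⁻¹ (by rw [← ht, inv_smul_smul₀ ht0])
  let B1 : Set (Fin n → K) := Killing (K ∙ b)
  let B2 : Set (Fin n → K) := Killing (LinearMap.range (disp S))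
  have hB1 : ∃ f ∈ Cand S v, f ∉ B1 :=
    exists_cand_killing hv fun h => hbD (h (Submodule.mem_span_singleton_self b))
  have hB2 : ∃ f ∈ Cand S v, f ∉ B2 := exists_cand_killing hv fun h => by
    have := (two_le_rank (notLine_of_ok hS hn)).trans ((Submodule.finrank_mono h).trans
      (finrank_span_line _))
    omega
  have fin : ∀ f ∈ Cand S v, f ∉ B1 → f ∉ B2 →
      (n = 3 → f ⬝ᵥ (S *ᵥ (S *ᵥ v)) ≠ S.trace - 2) →
      ((4 ≤ n ∨ n = 3 ∧ (2 : K) ≠ 0) → ∀ l : K, ∃ w, f ⬝ᵥ w = 0 ∧ res S v f w ≠ l • w) →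
      (4 ≤ n → ∀ u, ∃ w, f ⬝ᵥ w = 0 ∧ ∀ t : K, res S v f w - w ≠ t • u) →
      ∃ v f, Choice S b c v f := by
    intro f hf h1 h2 h3 h4 h5
    refine ⟨v, f, hcv, fun e => h1 fun x hx => ?_, hf.1, cand_fix hf, hmov, fun e => h2 ?_, h3, h4, h5⟩
    · obtain ⟨t, rfl⟩ := Submodule.mem_span_singleton.1 hx
      rw [dotProduct_smul, e, smul_zero]
    · rintro _ ⟨x, rfl⟩
      rw [disp_apply, dotProduct_sub, dotProduct_mulVec, e, sub_self]
  have hnotsc : ∀ f ∈ Cand S v, f ∉ ScalarRes S v →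
      ∀ l : K, ∃ w, f ⬝ᵥ w = 0 ∧ res S v f w ≠ l • w := fun f hf h l => by
    by_contra hne
    push Not at hne
    exact h ⟨hf, l, hne⟩
  have hscflat : 3 ≤ n → Flat K (ScalarRes S v) := fun h3 a ha b hb t => by
    rw [scalarRes_subsingleton hS h3 hv hb ha, sub_self, smul_zero, add_zero]
    exact ha
  have hscprop : 3 ≤ n → ∃ f ∈ Cand S v, f ∉ ScalarRes S v := fun h3 => by
    by_contra hne
    push Not at hne
    obtain ⟨x, hx⟩ : ∃ x, x ∉ Submodule.span K ({v, S *ᵥ v - v} : Set (Fin n → K)) := by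
      by_contra hall
      push Not at hall
      have h1 := Submodule.finrank_mono (show (⊤ : Submodule K (Fin n → K)) ≤ _ from fun x _ => hall x)
      rw [finrank_top, Module.finrank_fin_fun] at h1
      have := finrank_span_two v (S *ᵥ v - v)
      omega
    obtain ⟨g, hg1, hg0⟩ := exists_sep _ hx
    have hf1 : f₀ + g ∈ Cand S v :=
      ⟨by rw [add_dotProduct, hf₀.1, hg0 _ (Submodule.subset_span (by simp)), add_zero],
        by rw [add_dotProduct, hf₀.2, hg0 _ (Submodule.subset_span (by simp)), add_zero]⟩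
    have := scalarRes_subsingleton hS h3 hv (hne _ hf1) (hne _ hf₀)
    rw [add_eq_left] at this
    rw [this, zero_dotProduct] at hg1
    exact zero_ne_one hg1
  by_cases hn3 : n = 3
  · subst hn3
    let B3 : Set (Fin 3 → K) := {f | f ⬝ᵥ (S *ᵥ (S *ᵥ v)) = S.trace - 2}
    have hB3f : Flat K B3 := fun a (ha : _ = _) b (hb : _ = _) t => by
      show _ = _
      rw [add_dotProduct, smul_dotProduct, sub_dotProduct, ha, hb, sub_self, smul_zero, add_zero]
    have hB3 : ∃ f ∈ Cand S v, f ∉ B3 := exists_cand_ne hv (trace_not_forced hS hv hR)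
    by_cases h2 : (2 : K) = 0
    · obtain ⟨f, hf, hfB⟩ := exists_avoid flat_cand hf₀ 3 (room_three hK) ![B1, B2, B3]
        (fun i => by fin_cases i <;> [exact flat_killing _; exact flat_killing _; exact hB3f])
        (fun i => by fin_cases i <;> [exact hB1; exact hB2; exact hB3])
      exact fin f hf (hfB 0) (hfB 1) (fun _ => hfB 2)
        (fun h => by rcases h with h | h <;> [omega; exact absurd h2 h.2]) (by omega)
    · obtain ⟨f, hf, hfB⟩ := exists_avoid flat_cand hf₀ 4 (room_four hK h2)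
        ![B1, B2, B3, ScalarRes S v]
        (fun i => by fin_cases i <;>
          [exact flat_killing _; exact flat_killing _; exact hB3f; exact hscflat le_rfl])
        (fun i => by fin_cases i <;> [exact hB1; exact hB2; exact hB3; exact hscprop le_rfl])
      exact fin f hf (hfB 0) (hfB 1) (fun _ => hfB 2) (fun _ => hnotsc f hf (hfB 3)) (by omega)
  by_cases hn4 : 4 ≤ n
  · by_cases hr : Module.finrank K (LinearMap.range (disp S)) ≤ 2
    · have hB3 : ∃ f ∈ Cand S v, f ∉ Killing (LinearMap.ker (disp S)) := exists_cand_killing hv fun h => by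
        have h1 := (Submodule.finrank_mono h).trans (finrank_span_line _)
        have h2 := (disp S).finrank_range_add_finrank_ker
        rw [Module.finrank_fin_fun] at h2
        omega
      obtain ⟨f, hf, hfB⟩ := exists_avoid flat_cand hf₀ 3 (room_three hK)
        ![B1, B2, Killing (LinearMap.ker (disp S))]
        (fun i => by fin_cases i <;> exact flat_killing _)
        (fun i => by fin_cases i <;> [exact hB1; exact hB2; exact hB3])
      have hnl := notLine_res hn4 hmov hS hf hR (fun _ => hfB 2)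
      refine fin f hf (hfB 0) (hfB 1) (fun h => absurd h hn3) (fun _ l => ?_) (fun _ => hnl)
      by_contra hne
      push Not at hne
      by_cases hl : l = 1
      · obtain ⟨w, hw, hwt⟩ := hnl 0
        exact hwt 0 (by rw [hne w hw, hl, one_smul, sub_self, zero_smul])
      · let π : (Fin n → K) →ₗ[K] (Fin n → K) :=
          LinearMap.id - (dotProductEquiv K (Fin n) f).smulRight (S *ᵥ v)
        have hle : LinearMap.ker (dotProductEquiv K (Fin n) f) ≤
            (LinearMap.range (disp S)).map π := by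
          intro w hw
          replace hw : f ⬝ᵥ w = 0 := by simpa using hw
          refine ⟨disp S ((l - 1)⁻¹ • w), LinearMap.mem_range_self _ _, ?_⟩
          have h5 : π (disp S w) = (l - 1) • w := by
            rw [sub_smul, one_smul, ← hne w hw]
            simp only [π, LinearMap.sub_apply, LinearMap.id_apply, LinearMap.smulRight_apply,
              dotProductEquiv_apply_apply, disp_apply, dotProduct_sub, hw, sub_zero, res]
            abel
          rw [map_smul, map_smul, h5, inv_smul_smul₀ (sub_ne_zero.2 hl)]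
        have h1 := (Submodule.finrank_mono hle).trans ((Submodule.finrank_map_le π _).trans hr)
        have := finrank_ker_dot f
        omega
    · obtain ⟨f, hf, hfB⟩ := exists_avoid flat_cand hf₀ 3 (room_three hK) ![B1, B2, ScalarRes S v]
        (fun i => by fin_cases i <;>
          [exact flat_killing _; exact flat_killing _; exact hscflat (by omega)])
        (fun i => by fin_cases i <;> [exact hB1; exact hB2; exact hscprop (by omega)])
      exact fin f hf (hfB 0) (hfB 1) (fun h => absurd h hn3) (fun _ => hnotsc f hf (hfB 2))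
        (fun _ => notLine_res hn4 hmov hS hf hR (fun h => absurd h hr))
  · obtain ⟨f, hf, hfB⟩ := exists_avoid flat_cand hf₀ 2 (fun s hs => room_three hK s (by omega))
      ![B1, B2] (fun i => by fin_cases i <;> exact flat_killing _)
      (fun i => by fin_cases i <;> [exact hB1; exact hB2])
    exact fin f hf (hfB 0) (hfB 1) (fun h => absurd h hn3)
      (fun h => by rcases h with h | h <;> omega) (fun h => absurd h hn4)

end CfsgLib.RegUnipotent
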