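import Cfsg.Agent.Lib.RegUnipotent.Functional

/-!
A non-scalar matrix of determinant one over a field with at least four elements is conjugate to
the product of a lower and an upper regular unipotent triangular matrix, or is a transvection.
-/

set_option autoImplicit false

namespace CfsgLib.RegUnipotent

open Matrix

variable {K : Type*} [Field K]

/-- the conclusion of the recursion -/
def Good {n : ℕ} (S : Matrix (Fin n) (Fin n) K) : Prop :=
  ∀ b c : Fin n → K, b ≠ 0 → c ≠ 0 → ∃ P L U : Matrix (Fin n) (Fin n) K,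
    P.det ≠ 0 ∧ IsLowerReg L ∧ IsUpperReg U ∧ S * P = P * (L * U) ∧
      ∀ j : Fin n, j.val = 0 → (P⁻¹ *ᵥ b) j ≠ 0 ∧ (c ᵥ* P) j ≠ 0

theorem good_one (S : Matrix (Fin 1) (Fin 1) K) (hS : S.det = 1) : Good S := by
  intro b c hb hc
  have h1 : IsUpperReg (1 : Matrix (Fin 1) (Fin 1) K) :=
    ⟨fun i => Matrix.one_apply_eq i, fun i j h => absurd h (by omega),
      fun i j h => absurd h (by omega)⟩
  refine ⟨1, 1, 1, by simp, by rwa [IsLowerReg, transpose_one], h1, ?_, fun j _ => ?_⟩
  · rw [Matrix.det_fin_one] at hS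
    ext i j
    fin_cases i; fin_cases j
    simpa using hS
  · rw [inv_one, one_mulVec, vecMul_one]
    exact ⟨fun e => hb (funext fun i => Subsingleton.elim j i ▸ e),
      fun e => hc (funext fun i => Subsingleton.elim j i ▸ e)⟩

theorem good (hK : 4 ≤ Cardinal.mk K) : ∀ (m : ℕ) (S : Matrix (Fin (m + 1)) (Fin (m + 1)) K),
    Ok S → Good S
  | 0, S, hS => good_one S hS.det
  | m + 1, S, hS => by
    intro b c hb hc
    obtain ⟨v, f, ch⟩ := exists_choice hK hS (by omega) hb hc
    obtain ⟨P₁, b₁, c₁, M, hP, hPv, hfP, hTP, hMdet, htr, hPb, hSS, hres⟩ :=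
      exists_step_form S ch.fv ch.fS
    have hu : IsUnit P₁.det := isUnit_iff_ne_zero.2 hP
    have hinj : Function.Injective (P₁ *ᵥ ·) :=
      Matrix.mulVec_injective_iff_isUnit.2 ((Matrix.isUnit_iff_isUnit_det P₁).2 hu)
    have hcons0 : (Fin.cons 0 0 : Fin (m + 2) → K) = 0 := by
      ext i; cases i using Fin.cases <;> simp
    have hbne : b₁ ≠ 0 := fun e => ch.moved (by rw [← hPb, e, hcons0, mulVec_zero])
    have hcne : c₁ ≠ 0 := fun e => ch.row (by
      have h1 : (f ᵥ* S) ᵥ* P₁ = f ᵥ* P₁ := by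
        rw [vecMul_vecMul, hTP, ← vecMul_vecMul, hfP, e]
        ext i
        cases i using Fin.cases <;> simp
      have h2 := congrArg (· ᵥ* P₁⁻¹) h1
      simpa [vecMul_vecMul, mul_assoc, Matrix.mul_nonsing_inv P₁ hu] using h2)
    -- the residual matrix
    have hwz : ∀ w, f ⬝ᵥ w = 0 → ∃ z, w = P₁ *ᵥ Fin.cons 0 z := by
      intro w hw
      obtain ⟨y, rfl⟩ : ∃ y, P₁ *ᵥ y = w :=
        ⟨P₁⁻¹ *ᵥ w, by rw [mulVec_mulVec, Matrix.mul_nonsing_inv P₁ hu, one_mulVec]⟩
      rw [dotProduct_mulVec, hfP, single_dotProduct, one_mul] at hw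
      exact ⟨Fin.tail y, by rw [← hw, Fin.cons_self_tail]⟩
    have htrM : m = 1 → M.trace ≠ 2 := fun hm e =>
      ch.tr (by omega) (by linear_combination hSS - htr - e)
    have hok : Ok M := by
      refine ⟨hMdet.trans hS.det, fun hn l hl => ?_, fun hn => htrM (by omega), fun hn u => ?_⟩
      · by_cases h : 4 ≤ m + 2 ∨ m + 2 = 3 ∧ (2 : K) ≠ 0
        · obtain ⟨w, hw, hne⟩ := ch.sc h l
          obtain ⟨z, rfl⟩ := hwz w hw
          refine hne ((hres z).trans ?_)
          rw [hl, smul_mulVec, one_mulVec, ← mulVec_smul]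
          congr 1
          ext i
          cases i using Fin.cases <;> simp
        · push Not at h
          obtain rfl : m = 1 := by omega
          have h2 : (2 : K) = 0 := h.2 rfl
          have hd := hMdet.trans hS.det
          refine htrM rfl ?_
          rw [hl] at hd ⊢
          simp at hd ⊢
          linear_combination (l - 1) * h2
      · obtain ⟨w, hw, hne⟩ := ch.nl (by omega) (P₁ *ᵥ Fin.cons 0 u)
        obtain ⟨z, rfl⟩ := hwz w hw
        refine ⟨z, fun t ht => hne t ?_⟩
        show S *ᵥ _ - _ - _ = _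
        rw [hres z, ← mulVec_sub, ← mulVec_smul]
        congr 1
        ext i
        cases i using Fin.cases with
        | zero => simp
        | succ i => simpa using congrFun ht i
    obtain ⟨P', L', U', hP', hL', hU', hM, hfirst⟩ := good hK m M hok b₁ c₁ hbne hcne
    have hu' : IsUnit P'.det := isUnit_iff_ne_zero.2 hP'
    have hPf : P₁.det * (blk 1 0 0 P').det ≠ 0 := by
      rw [det_blk_upper]; exact mul_ne_zero hP hP'
    refine ⟨P₁ * blk 1 0 0 P', blk 1 (P'⁻¹ *ᵥ b₁) 0 L', blk 1 0 (c₁ ᵥ* P') U',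
      by rwa [Matrix.det_mul], lowerReg_blk hL' fun j hj => (hfirst j hj).1,
      upperReg_blk hU' fun j hj => (hfirst j hj).2, ?_, fun j hj => ?_⟩
    · rw [← mul_assoc, hTP, mul_assoc, mul_assoc]
      congr 1
      rw [blk_mul, blk_mul, blk_mul]
      simp only [mul_one, zero_dotProduct, dotProduct_zero, add_zero, zero_add, one_smul, one_mul,
        mulVec_zero, zero_vecMul, smul_zero, vecMulVec_zero, zero_vecMulVec, mulVec_mulVec,
        Matrix.mul_nonsing_inv P' hu', one_mulVec]
      congr 1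
      rw [add_mul, mul_add, mul_vecMulVec, mulVec_mulVec, Matrix.mul_nonsing_inv P' hu', one_mulVec,
        vecMulVec_mul, hM]
      exact add_comm _ _
    · obtain rfl : j = 0 := Fin.ext hj
      have hfF : f ᵥ* (P₁ * blk 1 0 0 P') = Pi.single 0 1 := by
        rw [← vecMul_vecMul, hfP]
        ext i
        cases i using Fin.cases <;> simp
      refine ⟨?_, ?_⟩
      · obtain ⟨z, hz⟩ : ∃ z, z = (P₁ * blk 1 0 0 P')⁻¹ *ᵥ b := ⟨_, rfl⟩
        rw [← hz]
        have hb' : (P₁ * blk 1 0 0 P') *ᵥ z = b := by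
          rw [hz, mulVec_mulVec, Matrix.mul_nonsing_inv _ (isUnit_iff_ne_zero.2 (by rwa [Matrix.det_mul])),
            one_mulVec]
        have h2 : f ⬝ᵥ b = z 0 := by
          rw [← hb', dotProduct_mulVec, hfF, single_dotProduct, one_mul]
        exact h2 ▸ ch.fb
      · have h2 : (P₁ * blk 1 0 0 P') *ᵥ Pi.single 0 1 = v := by
          rw [← mulVec_mulVec]
          refine (congrArg (P₁ *ᵥ ·) ?_).trans hPv
          ext i
          cases i using Fin.cases <;> simp
        have h3 : (c ᵥ* (P₁ * blk 1 0 0 P')) 0 = c ⬝ᵥ v := by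
          rw [← h2, dotProduct_mulVec, dotProduct_single, mul_one]
        rw [h3]
        exact ch.cv

end CfsgLib.RegUnipotent
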