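import Cfsg.Agent.Lib.RegUnipotent.Basic

/-!
The choice of a vector and a functional for one step of the triangular factorization of a
matrix of determinant one into regular unipotent factors.
-/

set_option autoImplicit false

namespace CfsgLib.RegUnipotent

open Matrix

variable {K : Type*} [Field K]

/-- The range of `S - 1` does not lie on a line. -/
def NotLine {n : ℕ} (S : Matrix (Fin n) (Fin n) K) : Prop :=
  ∀ u : Fin n → K, ∃ z, ∀ t : K, S *ᵥ z - z ≠ t • u

/-- The hypothesis carried through the recursion. -/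
structure Ok {n : ℕ} (S : Matrix (Fin n) (Fin n) K) : Prop where
  det : S.det = 1
  nonscalar : 2 ≤ n → ∀ l : K, S ≠ l • 1
  trace : n = 2 → S.trace ≠ 2
  notLine : 3 ≤ n → NotLine S

/-- `S - 1` as a linear map -/
def disp {n : ℕ} (S : Matrix (Fin n) (Fin n) K) : (Fin n → K) →ₗ[K] (Fin n → K) :=
  (S - 1).mulVecLin

theorem disp_apply {n : ℕ} (S : Matrix (Fin n) (Fin n) K) (z : Fin n → K) :
    disp S z = S *ᵥ z - z := by simp [disp, sub_mulVec]

theorem mulVec_injective {n : ℕ} {S : Matrix (Fin n) (Fin n) K} (h : S.det ≠ 0) {x : Fin n → K}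
    (hx : S *ᵥ x = 0) : x = 0 := by
  by_contra hne
  exact h (Matrix.exists_mulVec_eq_zero_iff.1 ⟨x, hne, hx⟩)

theorem disp_ne {n : ℕ} {S : Matrix (Fin n) (Fin n) K} (hS : Ok S) (hn : n = 2) {z : Fin n → K}
    (hz : z ≠ 0) : disp S z ≠ 0 := by
  intro h
  subst hn
  have hd := Matrix.exists_mulVec_eq_zero_iff.1 ⟨z, hz, h⟩
  refine hS.trace rfl ?_
  have h1 := hS.det
  rw [Matrix.det_fin_two] at hd h1
  simp at hd
  rw [Matrix.trace_fin_two]
  linear_combination h1 - hd

theorem range_disp_top {n : ℕ} {S : Matrix (Fin n) (Fin n) K} (hS : Ok S) (hn : n = 2) :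
    LinearMap.range (disp S) = ⊤ := by
  refine LinearMap.range_eq_top.2 (LinearMap.injective_iff_surjective.1 ?_)
  rw [← LinearMap.ker_eq_bot, LinearMap.ker_eq_bot']
  exact fun z h => by_contra fun hz => disp_ne hS hn hz h

theorem notLine_of_ok {n : ℕ} {S : Matrix (Fin n) (Fin n) K} (hS : Ok S) (hn : 2 ≤ n) :
    NotLine S := by
  by_cases h3 : 3 ≤ n
  · exact hS.notLine h3
  intro u
  by_contra hne
  push Not at hne
  have hle : LinearMap.range (disp S) ≤ K ∙ u := by
    rintro _ ⟨z, rfl⟩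
    obtain ⟨t, ht⟩ := hne z
    exact Submodule.mem_span_singleton.2 ⟨t, by rw [disp_apply, ht]⟩
  have h1 := Submodule.finrank_mono hle
  rw [range_disp_top hS (by omega), finrank_top, Module.finrank_fin_fun] at h1
  have := finrank_span_le_card ({u} : Set (Fin n → K)) (R := K)
  simp at this
  omega

theorem exists_not_mem_small {s : Finset K} (hK : 4 ≤ Cardinal.mk K) (hs : s.card ≤ 3) :
    ∃ t : K, t ∉ s := by
  by_contra h
  push Not at h
  have h1 : Cardinal.mk K ≤ (s.card : Cardinal) := by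
    rw [← Cardinal.mk_coe_finset]
    exact Cardinal.mk_le_of_injective (f := fun t : K => (⟨t, h t⟩ : s))
      fun a b e => congrArg Subtype.val e
  have h2 : (4 : Cardinal) ≤ (s.card : ℕ) := hK.trans h1
  have : (4 : ℕ) ≤ s.card := by exact_mod_cast h2
  omega

/-- Enough room for `k` bad points on every line. -/
def Room (K : Type*) (k : ℕ) : Prop := ∀ s : Finset K, s.card ≤ k → ∃ t, t ∉ s

theorem room_three (hK : 4 ≤ Cardinal.mk K) : Room K 3 := fun _ hs => exists_not_mem_small hK hs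

theorem room_four (hK : 4 ≤ Cardinal.mk K) (h2 : (2 : K) ≠ 0) : Room K 4 := by
  classical
  intro s hs
  by_contra h
  push Not at h
  obtain ⟨x, hx⟩ := exists_not_mem_small (s := ({0, 1, -1} : Finset K)) hK Finset.card_le_three
  simp only [Finset.mem_insert, Finset.mem_singleton, not_or] at hx
  have hn : (-1 : K) ≠ 1 := fun e => h2 (by linear_combination -e)
  have hxx : -x ≠ x := fun e => hx.1 ((mul_eq_zero.1 (by linear_combination -e : (2 : K) * x = 0)).resolve_left h2)
  have : ({0, 1, -1, x, -x} : Finset K).card = 5 := by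
    rw [Finset.card_insert_of_notMem, Finset.card_insert_of_notMem, Finset.card_insert_of_notMem,
      Finset.card_pair hxx.symm]
    · simp only [Finset.mem_insert, Finset.mem_singleton, not_or]
      exact ⟨Ne.symm hx.2.2, fun e => hx.2.1 (by rw [← neg_neg x, ← e, neg_neg])⟩
    · simp only [Finset.mem_insert, Finset.mem_singleton, not_or]
      exact ⟨hn.symm, Ne.symm hx.2.1, fun e => hx.2.2 (by rw [← neg_neg x, ← e])⟩
    · simp [Ne.symm hx.1, hx.1]
  have := Finset.card_le_card (s := ({0, 1, -1, x, -x} : Finset K)) (t := s) fun t _ => h t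
  omega

section Avoid

variable {V : Type*} [AddCommGroup V] [Module K V]

/-- closed under lines -/
def Flat (K : Type*) [Field K] {V : Type*} [AddCommGroup V] [Module K V] (A : Set V) : Prop :=
  ∀ a ∈ A, ∀ b ∈ A, ∀ t : K, a + t • (b - a) ∈ A

theorem flat_submodule (p : Submodule K V) : Flat K (p : Set V) := fun _ ha _ hb t =>
  p.add_mem ha (p.smul_mem t (p.sub_mem hb ha))

theorem exists_avoid {A : Set V} (hA : Flat K A) {a₀ : V} (h0 : a₀ ∈ A) :
    ∀ (k : ℕ), Room K k → ∀ B : Fin k → Set V, (∀ i, Flat K (B i)) →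
      (∀ i, ∃ a ∈ A, a ∉ B i) → ∃ a ∈ A, ∀ i, a ∉ B i
  | 0, _, _, _, _ => ⟨a₀, h0, fun i => i.elim0⟩
  | k + 1, hroom, B, hB, hp => by
    classical
    obtain ⟨a, haA, ha⟩ := exists_avoid hA h0 k (fun s hs => hroom s (by omega))
      (fun i => B i.castSucc) (fun i => hB _) fun i => hp _
    obtain ⟨b, hbA, hb⟩ := hp (Fin.last k)
    have huniq : ∀ i, ∀ t t' : K, a + t • (b - a) ∈ B i → a + t' • (b - a) ∈ B i → t = t' := by
      intro i t t' ht ht'
      by_contra hne
      have hne' : t' - t ≠ 0 := sub_ne_zero.2 (Ne.symm hne)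
      have key : ∀ r : K, a + r • (b - a) ∈ B i := fun r => by
        have := hB i _ ht _ ht' ((r - t) / (t' - t))
        convert this using 1
        rw [add_sub_add_left_eq_sub, ← sub_smul, smul_smul, div_mul_cancel₀ _ hne', sub_smul]
        abel
      cases i using Fin.lastCases with
      | last => exact hb (by simpa using key 1)
      | cast j => exact ha j (by simpa using key 0)
    let bad : Fin (k + 1) → K := fun i =>
      if h : ∃ t : K, a + t • (b - a) ∈ B i then h.choose else 0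
    obtain ⟨t, ht⟩ := hroom (Finset.univ.image bad) (Finset.card_image_le.trans (by simp))
    refine ⟨_, hA a haA b hbA t, fun i hi => ht (Finset.mem_image.2 ⟨i, Finset.mem_univ i, ?_⟩)⟩
    have he : ∃ t : K, a + t • (b - a) ∈ B i := ⟨t, hi⟩
    show bad i = t
    simp only [bad, dif_pos he]
    exact huniq i _ _ he.choose_spec hi

end Avoid

variable {n : ℕ}

theorem exists_vector (hK : 4 ≤ Cardinal.mk K) {S : Matrix (Fin n) (Fin n) K} (hS : Ok S)
    (hn : 2 ≤ n) {b c : Fin n → K} (hc : c ≠ 0) :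
    ∃ v, c ⬝ᵥ v ≠ 0 ∧ (∀ l : K, S *ᵥ v ≠ l • v) ∧ (∀ t : K, S *ᵥ v - v ≠ t • b) ∧
      (LinearMap.range (disp S) ≠ ⊤ → v ∉ LinearMap.range (disp S)) := by
  classical
  let p₀ : Submodule K (Fin n → K) := LinearMap.ker (dotProductEquiv K (Fin n) c)
  let p₁ : Submodule K (Fin n → K) := (K ∙ b).comap (disp S)
  have hp₀ : ∀ v, v ∈ p₀ ↔ c ⬝ᵥ v = 0 := fun v => by simp [p₀]
  have hp₁ : ∀ v, v ∈ p₁ ↔ ∃ t : K, S *ᵥ v - v = t • b := fun v => by
    simp only [p₁, Submodule.mem_comap, Submodule.mem_span_singleton, disp_apply, eq_comm]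
  have e0 : ∃ v, v ∉ p₀ := by
    obtain ⟨i, hi⟩ := Function.ne_iff.1 hc
    exact ⟨Pi.single i 1, by rw [hp₀, dotProduct_single, mul_one]; exact hi⟩
  have e1 : ∃ v, v ∉ p₁ := by
    obtain ⟨z, hz⟩ := notLine_of_ok hS hn b
    exact ⟨z, by rw [hp₁]; exact fun ⟨t, ht⟩ => hz t ht⟩
  have avoid : ∀ q : Submodule K (Fin n → K), (∃ v, v ∉ q) →
      ∃ v, v ∉ p₀ ∧ v ∉ p₁ ∧ v ∉ q := by
    intro q hq
    obtain ⟨v, -, hv⟩ := exists_avoid (K := K) (A := Set.univ) (fun _ _ _ _ _ => trivial)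
      (Set.mem_univ (0 : Fin n → K)) 3 (room_three hK) ![(p₀ : Set _), p₁, q]
      (fun i => by fin_cases i <;> exact flat_submodule _)
      (fun i => by fin_cases i <;> [obtain ⟨v, hv⟩ := e0; obtain ⟨v, hv⟩ := e1; obtain ⟨v, hv⟩ := hq] <;>
        exact ⟨v, trivial, hv⟩)
    exact ⟨v, hv 0, hv 1, hv 2⟩
  have done : ∀ v, v ∉ p₀ → v ∉ p₁ → (∀ l : K, S *ᵥ v ≠ l • v) →
      (LinearMap.range (disp S) ≠ ⊤ → v ∉ LinearMap.range (disp S)) →
      ∃ v, c ⬝ᵥ v ≠ 0 ∧ (∀ l : K, S *ᵥ v ≠ l • v) ∧ (∀ t : K, S *ᵥ v - v ≠ t • b) ∧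
        (LinearMap.range (disp S) ≠ ⊤ → v ∉ LinearMap.range (disp S)) := fun v h0 h1 h2 h3 =>
    ⟨v, fun e => h0 ((hp₀ v).2 e), h2, fun t ht => h1 ((hp₁ v).2 ⟨t, ht⟩), h3⟩
  by_cases hR : LinearMap.range (disp S) = ⊤
  · have eig : ∀ l : K, ∃ v, v ∉ Module.End.eigenspace (S.mulVecLin) l := by
      intro l
      by_contra h
      push Not at h
      refine hS.nonscalar hn l (Matrix.ext_of_mulVec_single fun j => ?_)
      have := Module.End.mem_eigenspace_iff.1 (h (Pi.single j 1))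
      rw [Matrix.mulVecLin_apply] at this
      rw [this, smul_mulVec, one_mulVec]
    obtain ⟨v₁, h10, h11, -⟩ := avoid p₀ e0
    by_cases g1 : ∀ l : K, S *ᵥ v₁ ≠ l • v₁
    · exact done v₁ h10 h11 g1 (fun h => absurd hR h)
    push Not at g1
    obtain ⟨l₁, hl₁⟩ := g1
    obtain ⟨v₂, h20, h21, h2E⟩ := avoid _ (eig l₁)
    by_cases g2 : ∀ l : K, S *ᵥ v₂ ≠ l • v₂
    · exact done v₂ h20 h21 g2 (fun h => absurd hR h)
    push Not at g2
    obtain ⟨l₂, hl₂⟩ := g2
    have hne : l₂ ≠ l₁ := fun e => h2E (Module.End.mem_eigenspace_iff.2 (by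
      rw [Matrix.mulVecLin_apply, hl₂, e]))
    have h2ne : v₂ ≠ 0 := fun e => h20 (e ▸ p₀.zero_mem)
    let bd : Submodule K (Fin n → K) → K := fun q =>
      if h : ∃ t : K, v₁ + t • v₂ ∈ q then h.choose else 0
    obtain ⟨t, ht⟩ := exists_not_mem_small (s := {0, bd p₀, bd p₁}) hK Finset.card_le_three
    simp only [Finset.mem_insert, Finset.mem_singleton, not_or] at ht
    have huniq : ∀ q : Submodule K (Fin n → K), v₂ ∉ q → t ≠ bd q → v₁ + t • v₂ ∉ q := by
      intro q h2 hb hq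
      have he : ∃ t : K, v₁ + t • v₂ ∈ q := ⟨t, hq⟩
      simp only [bd, dif_pos he] at hb
      have := q.sub_mem hq he.choose_spec
      rw [add_sub_add_left_eq_sub, ← sub_smul] at this
      exact h2 ((q.smul_mem_iff (sub_ne_zero.2 hb)).1 this)
    refine done (v₁ + t • v₂) (huniq _ h20 ht.2.1) (huniq _ h21 ht.2.2) (fun l hl => ?_)
      (fun h => absurd hR h)
    rw [mulVec_add, mulVec_smul, hl₁, hl₂] at hl
    -- two eigenvectors for different values
    have e : (l₁ - l) • v₁ = (t * (l - l₂)) • v₂ := by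
      linear_combination (norm := module) hl
    by_cases h : l₁ = l
    · rw [h, sub_self, zero_smul] at e
      rcases smul_eq_zero.1 e.symm with e' | e'
      · exact hne ((sub_eq_zero.1 ((mul_eq_zero.1 e').resolve_left ht.1)).symm.trans h.symm)
      · exact h2ne e'
    · have hv : v₁ = ((l₁ - l)⁻¹ * (t * (l - l₂))) • v₂ := by
        rw [← smul_smul, ← e, inv_smul_smul₀ (sub_ne_zero.2 h)]
      have h1v : S *ᵥ v₁ = l₂ • v₁ := by
        rw [hv, mulVec_smul, hl₂, smul_comm]
      have h1ne : v₁ ≠ 0 := fun e => h10 (e ▸ p₀.zero_mem)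
      exact hne (smul_left_injective K h1ne (h1v.symm.trans hl₁))
  · obtain ⟨v, h0, h1, h2⟩ := avoid (LinearMap.range (disp S)) (by
      by_contra h
      push Not at h
      exact hR (eq_top_iff.2 fun x _ => h x))
    refine done v h0 h1 (fun l hl => ?_) (fun _ => h2)
    by_cases hl1 : l = 1
    · exact h1 ((hp₁ v).2 ⟨0, by rw [hl, hl1, one_smul, sub_self, zero_smul]⟩)
    · refine h2 ⟨(l - 1)⁻¹ • v, ?_⟩
      rw [map_smul, disp_apply, hl]
      nth_rw 2 [← one_smul K v]
      rw [← sub_smul, inv_smul_smul₀ (sub_ne_zero.2 hl1)]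

end CfsgLib.RegUnipotent
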