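import Cfsg.Agent.Lib.RegUnipotent.Main

/-!
A transvection of degree at least three is a product of two conjugates of the Jordan block; the
theorem of Sourour for regular unipotent factors.
-/

set_option autoImplicit false

namespace CfsgLib.RegUnipotent

open Matrix

variable {K : Type*} [Field K]

theorem jordan_split (m : ℕ) : ∃ A : Matrix (Fin (m + 3)) (Fin (m + 3)) K, IsUpperReg A ∧
    jordan (m + 3) * A = 1 + vecMulVec (Pi.single 0 1) (Pi.single (Fin.last (m + 2)) 1) := by
  let A : Matrix (Fin (m + 3)) (Fin (m + 3)) K := Matrix.of fun i j =>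
    (if j.val < i.val then 0 else (-1 : K) ^ (j.val - i.val)) +
      (if i = 0 ∧ j = Fin.last (m + 2) then 1 else 0)
  have hA : ∀ i j, A i j = (if j.val < i.val then 0 else (-1 : K) ^ (j.val - i.val)) +
      (if i = 0 ∧ j = Fin.last (m + 2) then 1 else 0) := fun i j => rfl
  refine ⟨A, ⟨fun i => ?_, fun i j h => ?_, fun i j h => ?_⟩, ?_⟩
  · rw [hA, if_neg (lt_irrefl _), Nat.sub_self, pow_zero, if_neg, add_zero]
    rintro ⟨h1, h2⟩
    have := congrArg Fin.val (h1.symm.trans h2)
    simp at this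
  · have h' : j.val < i.val := h
    rw [hA, if_pos h', if_neg, add_zero]
    rintro ⟨rfl, -⟩
    simp at h'
  · rw [hA, if_neg (by omega), show j.val - i.val = 1 by omega, pow_one, if_neg, add_zero]
    · simp
    rintro ⟨rfl, rfl⟩
    simp at h
  · ext i j
    have hV : (vecMulVec (Pi.single 0 (1 : K)) (Pi.single (Fin.last (m + 2)) 1) :
        Matrix (Fin (m + 3)) (Fin (m + 3)) K) i j = if i = 0 ∧ j = Fin.last (m + 2) then 1 else 0 := by
      rw [vecMulVec_apply, Pi.single_apply, Pi.single_apply]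
      split_ifs <;> simp_all
    rw [Matrix.add_apply, hV, Matrix.mul_apply]
    by_cases hi : i = Fin.last (m + 2)
    · subst hi
      rw [Finset.sum_eq_single (Fin.last (m + 2)) (fun l _ hl => by
        have := l.isLt
        simp [jordan, Ne.symm hl]
        intro e
        omega) (fun h => absurd (Finset.mem_univ _) h)]
      have hne : (Fin.last (m + 2) : Fin (m + 3)) ≠ 0 := Fin.last_pos.ne'
      rw [hA]
      simp only [jordan, Matrix.of_apply, if_true, one_mul, hne, false_and, if_false, add_zero]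
      by_cases hj : j = Fin.last (m + 2)
      · rw [hj]; simp
      · rw [if_pos, Matrix.one_apply_ne (Ne.symm hj)]
        exact Fin.lt_def.1 (Fin.lt_last_iff_ne_last.2 hj)
    · let i' : Fin (m + 3) := ⟨i.val + 1, by
        have := Fin.lt_def.1 (Fin.lt_last_iff_ne_last.2 hi)
        simp at this
        omega⟩
      have hne : i ≠ i' := fun e => by
        have := congrArg Fin.val e
        simp [i'] at this
      rw [Fintype.sum_eq_add i i' hne (fun l hl => by
        simp only [jordan, Matrix.of_apply, if_neg (Ne.symm hl.1)]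
        rw [if_neg, zero_mul]
        exact fun e => hl.2 (Fin.ext e))]
      have hi'0 : i' ≠ 0 := fun e => by
        have := congrArg Fin.val e
        simp [i'] at this
      rw [show jordan (K := K) (m + 3) i i = 1 by simp [jordan],
        show jordan (K := K) (m + 3) i i' = 1 by simp [jordan, hne, i'],
        one_mul, one_mul, hA, hA]
      simp only [hi'0, false_and, if_false, add_zero]
      have hv : i'.val = i.val + 1 := rfl
      rcases lt_trichotomy i.val j.val with h | h | h
      · rw [if_neg (show ¬ j.val < i.val by omega), if_neg (show ¬ j.val < i'.val by omega), Matrix.one_apply_ne (fun e => h.ne (congrArg Fin.val e)),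
          show j.val - i.val = j.val - i'.val + 1 by omega, pow_succ]
        ring
      · rw [if_neg (show ¬ j.val < i.val by omega), if_pos (show j.val < i'.val by omega), Fin.ext h, Matrix.one_apply_eq, Nat.sub_self, pow_zero]
        ring
      · rw [if_pos h, if_pos (show j.val < i'.val by omega), Matrix.one_apply_ne (fun e => h.ne' (congrArg Fin.val e))]
        ring

theorem exists_transvection_frame {m : ℕ} {u f : Fin (m + 2) → K} (hu : u ≠ 0) (hf : f ≠ 0)
    (hfu : f ⬝ᵥ u = 0) : ∃ P : Matrix (Fin (m + 2)) (Fin (m + 2)) K, P.det ≠ 0 ∧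
      P *ᵥ Pi.single 0 1 = u ∧ f ᵥ* P = Pi.single (Fin.last (m + 1)) 1 := by
  classical
  obtain ⟨g, hg, -⟩ := exists_sep (⊥ : Submodule K (Fin (m + 2) → K)) (x := u) (by simpa using hu)
  obtain ⟨P, hP, hPu, -⟩ := exists_frame hg
  have hf0 : (f ᵥ* P) 0 = 0 := by
    rw [← hPu, dotProduct_mulVec, dotProduct_single, mul_one] at hfu
    exact hfu
  let f' : Fin (m + 1) → K := Fin.tail (f ᵥ* P)
  have hf' : f' ≠ 0 := fun e => hf (by
    have h1 : f ᵥ* P = 0 := by
      rw [← Fin.cons_self_tail (f ᵥ* P), hf0, show Fin.tail (f ᵥ* P) = 0 from e]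
      ext i
      cases i using Fin.cases <;> simp
    have h2 := congrArg (· ᵥ* P⁻¹) h1
    simpa [vecMul_vecMul, Matrix.mul_nonsing_inv P (isUnit_iff_ne_zero.2 hP)] using h2)
  obtain ⟨k, hk⟩ := Function.ne_iff.1 hf'
  obtain ⟨Q, hQ, -, hfQ⟩ := exists_frame (f := f') (v := Pi.single k (f' k)⁻¹) (by
    rw [dotProduct_single, mul_inv_cancel₀]
    simpa using hk)
  let σ : Equiv.Perm (Fin (m + 1)) := Equiv.swap 0 (Fin.last m)
  let Q' : Matrix (Fin (m + 1)) (Fin (m + 1)) K := Q.submatrix id σ
  have hQ' : Q'.det ≠ 0 := by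
    rw [show Q'.det = _ from Matrix.det_permute' σ Q]
    exact mul_ne_zero (by rcases Int.units_eq_one_or (Equiv.Perm.sign σ) with e | e <;> simp [e]) hQ
  refine ⟨P * blk 1 0 0 Q', by rw [Matrix.det_mul, det_blk_upper]; exact mul_ne_zero hP hQ', ?_, ?_⟩
  · rw [← mulVec_mulVec]
    refine (congrArg (P *ᵥ ·) ?_).trans hPu
    ext i
    cases i using Fin.cases <;> simp
  · rw [← vecMul_vecMul]
    funext j
    cases j using Fin.cases with
    | zero =>
      rw [Pi.single_eq_of_ne Fin.last_pos.ne]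
      show ∑ i : Fin (m + 2), (f ᵥ* P) i * blk 1 0 0 Q' i 0 = 0
      rw [Fin.sum_univ_succ, hf0]
      simp
    | succ j =>
      have h1 : ∑ i : Fin (m + 1), (f ᵥ* P) i.succ * Q' i j = (f' ᵥ* Q) (σ j) := rfl
      have h2 : (f ᵥ* P ᵥ* blk 1 0 0 Q') j.succ = ∑ i : Fin (m + 1), (f ᵥ* P) i.succ * Q' i j := by
        show ∑ i : Fin (m + 2), (f ᵥ* P) i * blk 1 0 0 Q' i j.succ = _
        rw [Fin.sum_univ_succ]
        simp
      rw [h2, h1, hfQ, show Fin.last (m + 1) = (Fin.last m).succ from rfl, Pi.single_apply,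
        Pi.single_apply]
      simp [σ, Equiv.swap_apply_eq_iff]

/-- Sourour's factorization with two regular unipotent factors -/
theorem exists_factor (hK : 4 ≤ Cardinal.mk K) {m : ℕ} (S : Matrix (Fin (m + 3)) (Fin (m + 3)) K)
    (hdet : S.det = 1) (hns : ∀ l : K, S ≠ l • 1) :
    ∃ P L U : Matrix (Fin (m + 3)) (Fin (m + 3)) K, P.det ≠ 0 ∧
      (IsLowerReg L ∨ IsUpperReg L) ∧ IsUpperReg U ∧ S * P = P * (L * U) := by
  by_cases hline : NotLine S
  · have hok : Ok S := ⟨hdet, fun _ => hns, fun h => absurd h (by omega), fun _ => hline⟩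
    have he : (Pi.single 0 1 : Fin (m + 3) → K) ≠ 0 := by simp
    obtain ⟨P, L, U, hP, hL, hU, hS, -⟩ := good hK (m + 2) S hok _ _ he he
    exact ⟨P, L, U, hP, Or.inl hL, hU, hS⟩
  unfold NotLine at hline
  push Not at hline
  obtain ⟨u, hu⟩ := hline
  choose t ht using hu
  let f : Fin (m + 3) → K := fun j => t (Pi.single j 1)
  have hS : S = 1 + vecMulVec u f := by
    refine Matrix.ext_of_mulVec_single fun j => ?_
    rw [add_mulVec, one_mulVec, ← sub_eq_iff_eq_add', ht, vecMulVec_mulVec]
    ext i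
    simp [f, dotProduct_single, mul_comm]
  have hu0 : u ≠ 0 := fun e => hns 1 (by rw [hS, e, zero_vecMulVec, one_smul, add_zero])
  have hf0 : f ≠ 0 := fun e => hns 1 (by rw [hS, e, vecMulVec_zero, one_smul, add_zero])
  have hfu : f ⬝ᵥ u = 0 := by
    rw [hS, vecMulVec_eq Unit, det_one_add_replicateCol_mul_replicateRow] at hdet
    exact add_eq_left.1 hdet
  obtain ⟨P, hP, hPu, hfP⟩ := exists_transvection_frame hu0 hf0 hfu
  obtain ⟨A, hA, hJA⟩ := jordan_split (K := K) m
  refine ⟨P, jordan (m + 3), A, hP, Or.inr ?_, hA, ?_⟩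
  · refine ⟨fun i => by simp [jordan], fun i j (h : j < i) => ?_, fun i j h => ?_⟩
    · have h' : j.val < i.val := h
      simp [jordan, h.ne', show ¬ j.val = i.val + 1 by omega]
    · have : i ≠ j := fun e => by rw [e] at h; omega
      simp [jordan, this, h]
  · rw [hJA, hS, add_mul, mul_add, one_mul, mul_one, vecMulVec_mul, mul_vecMulVec, hfP, hPu]

theorem exists_conj {n : ℕ} {L : Matrix (Fin n) (Fin n) K} (h : IsLowerReg L ∨ IsUpperReg L) :
    ∃ x : Matrix (Fin n) (Fin n) K, x.det ≠ 0 ∧ L * x = x * jordan n :=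
  h.elim lowerReg_conj_jordan upperReg_conj_jordan

end CfsgLib.RegUnipotent
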